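import Mathlib
import Groth.Prelude
import Groth.Agent.Lib.Lead.GUnib21
import Groth.Agent.Lib.Lead.GUnib19
import Groth.Agent.Lib.Helper7.Hensel.IntegralDomain
import Groth.Agent.Lib.Helper7.EssEtSplit.Main
import Groth.Agent.S9812
import Groth.Agent.S0510

/-!
# Branches of henselizations under smooth maps with purely inseparable residue extension: algebra

* `PIRes q f` : elementwise form of "the residue field of the local ring `C` is purely inseparable
  over the image of `A`".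
* `prime_tensor_unique` : uniqueness of the prime of `R' ⊗ E` over a pair of primes when one of the
  residue extensions is purely inseparable.
* `isDomain_atPrime_of_smooth_of_isGeomUnibranch` : (lead's `S13199_main` with the hypothesis
  "geometrically unibranch" made explicit).
* `exists_unique_minimal_over_pi`, `encard_minimalPrimes_atPrime_le_of_smooth_pi`,
  `encard_minimalPrimes_atPrime_le_henselization_pi`.
-/

set_option linter.style.haveILetI false
set_option linter.unusedVariables false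
set_option linter.unusedSectionVars false
set_option linter.overlappingInstances false
set_option autoImplicit false
set_option backward.isDefEq.respectTransparency.types false
set_option backward.isDefEq.respectTransparency false
set_option synthInstance.maxHeartbeats 400000
set_option maxHeartbeats 1600000

universe u

open IsLocalRing TensorProduct

namespace Groth.Agent.Helper7.BrSm

open Groth.Agent.Lead.GUnib Groth.Agent.Helper7.SHens

/-! ### `PIRes` -/

/-- elementwise: the residue field of the local ring `C` is purely inseparable (exponent `q`)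
over the image of `A`. -/
def PIRes {A C : Type u} [CommRing A] [CommRing C] [IsLocalRing C] (q : ℕ) (f : A →+* C) : Prop :=
  ∀ y : C, ∃ n : ℕ, ∃ a : A, y ^ q ^ n - f a ∈ maximalIdeal C

theorem PIRes.of_resSurj {A C : Type u} [CommRing A] [CommRing C] [IsLocalRing C] (q : ℕ)
    {f : A →+* C} (h : ResSurj f) : PIRes q f := by
  intro y
  obtain ⟨a, ha⟩ := h y
  refine ⟨0, a, ?_⟩
  rw [pow_zero, pow_one]
  have := (maximalIdeal C).neg_mem ha
  rwa [neg_sub] at this

theorem PIRes.comp {A B C : Type u} [CommRing A] [CommRing B] [IsLocalRing B] [CommRing C]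
    [IsLocalRing C] (q : ℕ) {f : A →+* B} {g : B →+* C} [IsLocalHom g]
    (hf : PIRes q f) (hg : PIRes q g) : PIRes q (g.comp f) := by
  intro y
  obtain ⟨n, b, hb⟩ := hg y
  obtain ⟨k, a, ha⟩ := hf b
  refine ⟨n + k, a, ?_⟩
  rw [← residue_eq_zero_iff] at hb ha ⊢
  rw [map_sub, sub_eq_zero, map_pow] at hb ha ⊢
  have h1 : residue C (g (f a)) = (ResidueField.map g) (residue B (f a)) :=
    (ResidueField.map_residue g _).symm
  rw [RingHom.comp_apply, h1, ← ha, map_pow, ResidueField.map_residue, ← hb, ← pow_mul,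
    ← pow_add]

theorem PIRes.of_square {A C A' C' : Type u} [CommRing A] [CommRing C] [IsLocalRing C]
    [CommRing A'] [CommRing C'] [IsLocalRing C'] (q : ℕ) {f : A →+* C} {f' : A' →+* C'}
    (e₁ : A ≃+* A') (e₂ : C ≃+* C') (h : ∀ a, e₂ (f a) = f' (e₁ a)) (hf : PIRes q f) :
    PIRes q f' := by
  intro y'
  obtain ⟨n, a, ha⟩ := hf (e₂.symm y')
  refine ⟨n, e₁ a, ?_⟩
  have h1 : y' ^ q ^ n - f' (e₁ a) = e₂ (e₂.symm y' ^ q ^ n - f a) := by
    rw [map_sub, map_pow, e₂.apply_symm_apply, h]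
  rw [h1]
  exact (mem_maximalIdeal_ringEquiv e₂ _).mpr ha

theorem PIRes.of_arrowIso {A S A' S' : CommRingCat.{u}} [IsLocalRing S] [IsLocalRing S'] (q : ℕ)
    {f : A ⟶ S} {f' : A' ⟶ S'} (i : CategoryTheory.Arrow.mk f ≅ CategoryTheory.Arrow.mk f')
    (hf : PIRes q f.hom) : PIRes q f'.hom := by
  let e₁ : A ≅ A' := CategoryTheory.Arrow.leftFunc.mapIso i
  let e₂ : S ≅ S' := CategoryTheory.Arrow.rightFunc.mapIso i
  refine PIRes.of_square q e₁.commRingCatIsoToRingEquiv e₂.commRingCatIsoToRingEquiv ?_ hf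
  intro a
  have hw : CategoryTheory.CategoryStruct.comp f i.hom.right =
      CategoryTheory.CategoryStruct.comp i.hom.left f' := i.hom.w.symm
  exact congr($(hw).hom a)

/-! ### Frobenius closure over tensor generators -/

theorem pinsep_tensor {R S₁ S₂ Ω : Type u} [CommRing R] [CommRing S₁] [CommRing S₂]
    [Algebra R S₁] [Algebra R S₂] [CommRing Ω] (q : ℕ) [ExpChar Ω q] (ψ : S₁ ⊗[R] S₂ →+* Ω)
    (R₀ : Subring Ω)
    (h₁ : ∀ s : S₁, ∃ n : ℕ, ψ (s ⊗ₜ[R] 1) ^ q ^ n ∈ R₀)
    (h₂ : ∀ s : S₂, ∃ n : ℕ, ψ (1 ⊗ₜ[R] s) ^ q ^ n ∈ R₀) (t : S₁ ⊗[R] S₂) :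
    ∃ n : ℕ, ψ t ^ q ^ n ∈ R₀ := by
  induction t using TensorProduct.induction_on with
  | zero =>
    refine ⟨0, ?_⟩
    rw [map_zero, pow_zero, pow_one]
    exact R₀.zero_mem
  | tmul a b =>
    have h : a ⊗ₜ[R] b = (a ⊗ₜ[R] (1 : S₂)) * ((1 : S₁) ⊗ₜ[R] b) := by
      rw [Algebra.TensorProduct.tmul_mul_tmul, mul_one, one_mul]
    rw [h, map_mul]
    exact Groth.Agent.Helper7.EssEtSplit.pinsep_mul q R₀ (h₁ a) (h₂ b)
  | add x y hx hy =>
    rw [map_add]
    exact Groth.Agent.Helper7.EssEtSplit.pinsep_add q R₀ hx hy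

/-! ### Uniqueness of the prime in a tensor product -/

section Unique

variable {A E R' : Type u} [CommRing A] [IsLocalRing A] [CommRing E] [CommRing R']
  [Algebra A E] [Algebra A R'] (q : ℕ) [ExpChar (ResidueField A) q]
  (𝔫 : Ideal E) (m' : Ideal R')

/-- the ideal generated by `m'` and `𝔫` in the tensor product -/
def sumIdeal : Ideal (R' ⊗[A] E) :=
  m'.map (Algebra.TensorProduct.includeLeft : R' →ₐ[A] R' ⊗[A] E).toRingHom ⊔
    𝔫.map (Algebra.TensorProduct.includeRight : E →ₐ[A] R' ⊗[A] E).toRingHom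

theorem exists_pow_sub_mem (hm' : (maximalIdeal A).map (algebraMap A R') ≤ m')
    (hpi : ∀ e : E, ∃ n : ℕ, ∃ a : A, e ^ q ^ n - algebraMap A E a ∈ 𝔫)
    (hne : sumIdeal (A := A) 𝔫 m' ≠ ⊤) (x : R' ⊗[A] E) :
    ∃ n : ℕ, ∃ ρ : R', x ^ q ^ n - ρ ⊗ₜ[A] (1 : E) ∈ sumIdeal (A := A) 𝔫 m' := by
  classical
  haveI : Nontrivial ((R' ⊗[A] E) ⧸ sumIdeal (A := A) 𝔫 m') :=
    Ideal.Quotient.nontrivial_iff.mpr hne
  have hkill : ∀ a ∈ maximalIdeal A,
      ((Ideal.Quotient.mk (sumIdeal (A := A) 𝔫 m')).comp (algebraMap A (R' ⊗[A] E))) a = 0 := by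
    intro a ha
    rw [RingHom.comp_apply, Ideal.Quotient.eq_zero_iff_mem]
    have h1 : algebraMap A (R' ⊗[A] E) a = (algebraMap A R' a) ⊗ₜ[A] (1 : E) := rfl
    rw [h1]
    apply Ideal.mem_sup_left
    exact Ideal.mem_map_of_mem _ (hm' (Ideal.mem_map_of_mem _ ha))
  let φ : ResidueField A →+* (R' ⊗[A] E) ⧸ sumIdeal (A := A) 𝔫 m' :=
    Ideal.Quotient.lift (maximalIdeal A)
      ((Ideal.Quotient.mk (sumIdeal (A := A) 𝔫 m')).comp (algebraMap A (R' ⊗[A] E))) hkill
  haveI : ExpChar ((R' ⊗[A] E) ⧸ sumIdeal (A := A) 𝔫 m') q :=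
    expChar_of_injective_ringHom (RingHom.injective φ) q
  have h₁ : ∀ s : R', ∃ n : ℕ,
      (Ideal.Quotient.mk (sumIdeal (A := A) 𝔫 m')) (s ⊗ₜ[A] (1 : E)) ^ q ^ n ∈
        ((Ideal.Quotient.mk (sumIdeal (A := A) 𝔫 m')).comp
          (Algebra.TensorProduct.includeLeft : R' →ₐ[A] R' ⊗[A] E).toRingHom).range := by
    intro s
    refine ⟨0, ?_⟩
    rw [pow_zero, pow_one]
    exact ⟨s, rfl⟩
  have h₂ : ∀ e : E, ∃ n : ℕ,
      (Ideal.Quotient.mk (sumIdeal (A := A) 𝔫 m')) ((1 : R') ⊗ₜ[A] e) ^ q ^ n ∈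
        ((Ideal.Quotient.mk (sumIdeal (A := A) 𝔫 m')).comp
          (Algebra.TensorProduct.includeLeft : R' →ₐ[A] R' ⊗[A] E).toRingHom).range := by
    intro e
    obtain ⟨n, a, ha⟩ := hpi e
    refine ⟨n, algebraMap A R' a, ?_⟩
    rw [← map_pow]
    show (Ideal.Quotient.mk (sumIdeal (A := A) 𝔫 m')) ((algebraMap A R' a) ⊗ₜ[A] (1 : E)) =
      (Ideal.Quotient.mk (sumIdeal (A := A) 𝔫 m')) (((1 : R') ⊗ₜ[A] e) ^ q ^ n)
    rw [Algebra.TensorProduct.tmul_pow, one_pow]
    symm
    rw [← sub_eq_zero, ← map_sub, Ideal.Quotient.eq_zero_iff_mem]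
    have h3 : (1 : R') ⊗ₜ[A] (e ^ q ^ n) - (algebraMap A R' a) ⊗ₜ[A] (1 : E) =
        (1 : R') ⊗ₜ[A] (e ^ q ^ n - algebraMap A E a) := by
      rw [TensorProduct.tmul_sub]
      congr 1
      rw [Algebra.algebraMap_eq_smul_one (A := R') a, Algebra.algebraMap_eq_smul_one (A := E) a,
        TensorProduct.smul_tmul]
    rw [h3]
    apply Ideal.mem_sup_right
    exact Ideal.mem_map_of_mem _ ha
  obtain ⟨n, ρ, hρ⟩ := pinsep_tensor q (Ideal.Quotient.mk (sumIdeal (A := A) 𝔫 m')) _ h₁ h₂ x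
  refine ⟨n, ρ, ?_⟩
  rw [← Ideal.Quotient.eq_zero_iff_mem, map_sub, sub_eq_zero, map_pow]
  exact hρ.symm

theorem prime_tensor_unique (hm' : (maximalIdeal A).map (algebraMap A R') ≤ m')
    (hpi : ∀ e : E, ∃ n : ℕ, ∃ a : A, e ^ q ^ n - algebraMap A E a ∈ 𝔫)
    (W₁ W₂ : Ideal (R' ⊗[A] E)) [hW₁ : W₁.IsPrime] [hW₂ : W₂.IsPrime]
    (h1R : W₁.comap (Algebra.TensorProduct.includeLeft : R' →ₐ[A] R' ⊗[A] E).toRingHom = m')
    (h1E : W₁.comap (Algebra.TensorProduct.includeRight : E →ₐ[A] R' ⊗[A] E).toRingHom = 𝔫)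
    (h2R : W₂.comap (Algebra.TensorProduct.includeLeft : R' →ₐ[A] R' ⊗[A] E).toRingHom = m')
    (h2E : W₂.comap (Algebra.TensorProduct.includeRight : E →ₐ[A] R' ⊗[A] E).toRingHom = 𝔫) :
    W₁ = W₂ := by
  have hI₁ : sumIdeal (A := A) 𝔫 m' ≤ W₁ :=
    sup_le (Ideal.map_le_iff_le_comap.mpr h1R.ge) (Ideal.map_le_iff_le_comap.mpr h1E.ge)
  have hI₂ : sumIdeal (A := A) 𝔫 m' ≤ W₂ :=
    sup_le (Ideal.map_le_iff_le_comap.mpr h2R.ge) (Ideal.map_le_iff_le_comap.mpr h2E.ge)
  have hne : sumIdeal (A := A) 𝔫 m' ≠ ⊤ := fun h => hW₁.ne_top (top_le_iff.mp (h ▸ hI₁))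
  have key : ∀ (W W' : Ideal (R' ⊗[A] E)), W.IsPrime → W'.IsPrime →
      sumIdeal (A := A) 𝔫 m' ≤ W → sumIdeal (A := A) 𝔫 m' ≤ W' →
      W.comap (Algebra.TensorProduct.includeLeft : R' →ₐ[A] R' ⊗[A] E).toRingHom = m' →
      W'.comap (Algebra.TensorProduct.includeLeft : R' →ₐ[A] R' ⊗[A] E).toRingHom = m' →
      W ≤ W' := by
    intro W W' hW hW' hIW hIW' hR hR' x hx
    obtain ⟨n, ρ, hρ⟩ := exists_pow_sub_mem q 𝔫 m' hm' hpi hne x
    have h1 : ρ ⊗ₜ[A] (1 : E) ∈ W := by
      have h2 : x ^ q ^ n ∈ W :=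
        W.pow_mem_of_mem hx _ (pow_pos (expChar_pos (ResidueField A) q) n)
      have h3 := W.sub_mem h2 (hIW hρ)
      rwa [sub_sub_cancel] at h3
    have h4 : ρ ∈ m' := by
      rw [← hR]
      exact h1
    have h5 : ρ ⊗ₜ[A] (1 : E) ∈ W' := by
      have h : ρ ∈ W'.comap
          (Algebra.TensorProduct.includeLeft : R' →ₐ[A] R' ⊗[A] E).toRingHom := by
        rw [hR']
        exact h4
      exact h
    have h6 : x ^ q ^ n ∈ W' := by
      have h7 := W'.add_mem (hIW' hρ) h5
      rwa [sub_add_cancel] at h7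
    exact hW'.mem_of_pow_mem _ h6
  exact le_antisymm (key W₁ W₂ hW₁ hW₂ hI₁ hI₂ h1R h2R) (key W₂ W₁ hW₂ hW₁ hI₂ hI₁ h2R h1R)

end Unique

/-! ### Smooth over a geometrically unibranch local domain -/

theorem isDomain_atPrime_of_smooth_of_isGeomUnibranch (R R' : Type u) [CommRing R] [IsDomain R]
    [IsLocalRing R] (hgu : CAlg2.IsGeomUnibranch R) [CommRing R'] [Algebra R R']
    [Algebra.Smooth R R']
    (p : Ideal R') [hpp : p.IsPrime] (hp : (maximalIdeal R).map (algebraMap R R') ≤ p) :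
    IsDomain (Localization.AtPrime p) := by
  haveI : Algebra.IsSmoothAt R p := inferInstance
  obtain ⟨f, hfp, n, alg, hst, hse⟩ :=
    Algebra.IsSmoothAt.exists_isStandardEtale_mvPolynomial (R := R) (p := p)
  let E := Localization.Away f
  let σ := ULift.{u} (Fin n)
  let P := MvPolynomial σ R
  let eP : P ≃ₐ[R] MvPolynomial (Fin n) R := MvPolynomial.renameEquiv R Equiv.ulift
  let φ : P →+* E := (algebraMap (MvPolynomial (Fin n) R) E).comp eP.toRingHom
  have hφ : φ.Etale :=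
    RingHom.Etale.stableUnderComposition _ _ (RingHom.Etale.of_bijective eP.bijective)
      (RingHom.etale_algebraMap.mpr inferInstance)
  algebraize [φ]
  have hdisj : Disjoint (Submonoid.powers f : Set R') (p : Set R') :=
    (Ideal.disjoint_powers_iff_notMem_of_isPrime _).mpr hfp
  let Q : Ideal E := p.map (algebraMap R' E)
  haveI hQp : Q.IsPrime := IsLocalization.isPrime_of_isPrime_disjoint (.powers f) _ _ hpp hdisj
  have hQc : Q.comap (algebraMap R' E) = p :=
    IsLocalization.comap_map_of_isPrime_disjoint (.powers f) E hpp hdisj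
  let p' : Ideal P := Q.comap (algebraMap P E)
  have hcomp : (algebraMap P E).comp (MvPolynomial.C : R →+* P) = algebraMap R E := by
    ext r
    show algebraMap (MvPolynomial (Fin n) R) E (eP (MvPolynomial.C r)) = _
    rw [show (MvPolynomial.C r : P) = algebraMap R P r from rfl, eP.commutes,
      ← IsScalarTower.algebraMap_apply]
  have hp'c : p'.comap (MvPolynomial.C : R →+* P) = maximalIdeal R := by
    have h1 : p'.comap (MvPolynomial.C : R →+* P) = p.comap (algebraMap R R') := by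
      rw [Ideal.comap_comap, hcomp, IsScalarTower.algebraMap_eq R R' E, ← Ideal.comap_comap, hQc]
    rw [h1]
    refine ((maximalIdeal.isMaximal R).eq_of_le (Ideal.IsPrime.ne_top inferInstance) ?_).symm
    exact Ideal.map_le_iff_le_comap.mp hp
  haveI : IsLocalization.AtPrime R (maximalIdeal R) :=
    IsLocalization.of_le_isUnit (fun a ha => IsLocalRing.notMem_maximalIdeal.mp ha)
  have hgu' : CAlg2.IsGeomUnibranch (Localization.AtPrime p') :=
    Groth.Agent.Lib.Helper4.ChevCrit2.isGeomUnibranch_mvPolynomial σ p' (maximalIdeal R) hp'c R hgu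
      (Localization.AtPrime p')
  have hd := isDomain_atPrime_of_etale p' hgu' E Q rfl
  let T := Localization.AtPrime Q
  haveI : IsLocalization.AtPrime T (Q.comap (algebraMap R' E)) :=
    IsLocalization.isLocalization_isLocalization_atPrime_isLocalization (Submonoid.powers f) T Q
  have key : ∀ (q : Ideal R') [q.IsPrime], q = p → IsLocalization.AtPrime T q →
      IsLocalization.AtPrime T p := by
    rintro q _ rfl h
    exact h
  haveI : IsLocalization.AtPrime T p := key _ hQc inferInstance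
  let e : Localization.AtPrime p ≃ₐ[R'] T := IsLocalization.algEquiv p.primeCompl _ _
  exact e.toMulEquiv.isDomain _

/-! ### Integrality of the right factor -/

section Right

attribute [local instance] Algebra.TensorProduct.rightAlgebra

theorem isIntegral_rightAlgebra (A D S : Type u) [CommRing A] [CommRing D] [CommRing S]
    [Algebra A D] [Algebra A S] [Algebra.IsIntegral A D] : Algebra.IsIntegral S (D ⊗[A] S) := by
  constructor
  intro t
  induction t using TensorProduct.induction_on with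
  | zero => exact isIntegral_zero
  | tmul d s =>
    have h1 : IsIntegral A (d ⊗ₜ[A] (1 : S)) :=
      (Algebra.IsIntegral.isIntegral (R := A) d).map
        (Algebra.TensorProduct.includeLeft : D →ₐ[A] D ⊗[A] S)
    have h2 : IsIntegral S (d ⊗ₜ[A] (1 : S)) := h1.tower_top
    have h3 : d ⊗ₜ[A] s = (d ⊗ₜ[A] (1 : S)) * algebraMap S (D ⊗[A] S) s := by
      rw [Algebra.TensorProduct.right_algebraMap_apply, Algebra.TensorProduct.tmul_mul_tmul,
        mul_one, one_mul]
    rw [h3]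
    exact h2.mul isIntegral_algebraMap
  | add x y hx hy => exact hx.add hy

end Right

end Groth.Agent.Helper7.BrSm
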