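import Mathlib
import Groth.Prelude
import Groth.Agent.Lib.Helper7.BrSm.Alg
import Groth.Agent.S0509

/-!
# Minimal primes of local rings of smooth algebras over henselian rings, purely inseparable
residue extension

* `exists_unique_minimal_over_pi` : over a henselian local ring `A`, the minimal primes of a smooth
  algebra contained in a prime `𝔫` over the closed point with purely inseparable residue extension
  are determined by their contraction to `A`.
* `encard_minimalPrimes_atPrime_le_of_smooth_pi`, `encard_minimalPrimes_atPrime_le_henselization_pi`.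
-/

set_option linter.style.haveILetI false
set_option linter.unusedVariables false
set_option linter.unusedSectionVars false
set_option linter.overlappingInstances false
set_option autoImplicit false
set_option backward.isDefEq.respectTransparency.types false
set_option backward.isDefEq.respectTransparency false
set_option synthInstance.maxHeartbeats 400000
set_option maxHeartbeats 1600000

universe u

open IsLocalRing TensorProduct

namespace Groth.Agent.Helper7.BrSm

open Groth.Agent.Lead.GUnib Groth.Agent.Helper7.SHens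

theorem mem_of_sub_mk'_mem {E : Type u} [CommRing E] (𝔫 : Ideal E) [𝔫.IsPrime] (z b : E)
    (c : 𝔫.primeCompl)
    (h : algebraMap E (Localization.AtPrime 𝔫) z -
      IsLocalization.mk' (Localization.AtPrime 𝔫) b c ∈ maximalIdeal (Localization.AtPrime 𝔫)) :
    (c : E) * z - b ∈ 𝔫 := by
  have h4 := (maximalIdeal (Localization.AtPrime 𝔫)).mul_mem_left
    (algebraMap E (Localization.AtPrime 𝔫) (c : E)) h
  have h5 : algebraMap E (Localization.AtPrime 𝔫) (c : E) *
      (algebraMap E (Localization.AtPrime 𝔫) z -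
        IsLocalization.mk' (Localization.AtPrime 𝔫) b c) =
      algebraMap E (Localization.AtPrime 𝔫) ((c : E) * z - b) := by
    rw [mul_sub, mul_comm _ (IsLocalization.mk' _ _ _), IsLocalization.mk'_spec, map_sub, map_mul]
  rw [h5] at h4
  exact (IsLocalization.AtPrime.to_map_mem_maximal_iff (Localization.AtPrime 𝔫) 𝔫 _).mp h4

section GoingUp

attribute [local instance] Algebra.TensorProduct.rightAlgebra

theorem ker_comap_le {Ab D R' : Type u} [CommRing Ab] [IsLocalRing Ab] [CommRing D] [CommRing R']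
    [IsLocalRing R'] [Algebra Ab D] [Algebra Ab R'] [Module.Flat Ab D] [Algebra.IsIntegral Ab R']
    (hinj : Function.Injective (algebraMap Ab R')) (q : ℕ) [ExpChar (ResidueField Ab) q]
    (𝔫D : Ideal D) [𝔫D.IsPrime] (h𝔫Dc : 𝔫D.comap (algebraMap Ab D) = maximalIdeal Ab)
    (hm'c : (maximalIdeal R').comap (algebraMap Ab R') = maximalIdeal Ab)
    (hpiD : ∀ d : D, ∃ n : ℕ, ∃ a : Ab, d ^ q ^ n - algebraMap Ab D a ∈ 𝔫D)
    (W : Ideal (R' ⊗[Ab] D)) [hW : W.IsPrime]
    (hWl : W.comap (Algebra.TensorProduct.includeLeft : R' →ₐ[Ab] R' ⊗[Ab] D).toRingHom =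
      maximalIdeal R')
    (hWr : W.comap (Algebra.TensorProduct.includeRight : D →ₐ[Ab] R' ⊗[Ab] D).toRingHom = 𝔫D)
    (Qb : Ideal D) [hQb : Qb.IsPrime] (hQb𝔫 : Qb ≤ 𝔫D) :
    (RingHom.ker (algebraMap (R' ⊗[Ab] D) (Localization.AtPrime W))).comap
      (Algebra.TensorProduct.includeRight : D →ₐ[Ab] R' ⊗[Ab] D).toRingHom ≤ Qb := by
  haveI hint : Algebra.IsIntegral D (R' ⊗[Ab] D) := isIntegral_rightAlgebra Ab R' D
  have eL : (algebraMap R' (R' ⊗[Ab] D)) =
      (Algebra.TensorProduct.includeLeft : R' →ₐ[Ab] R' ⊗[Ab] D).toRingHom := by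
    ext x
    rfl
  have eR : (algebraMap D (R' ⊗[Ab] D)) =
      (Algebra.TensorProduct.includeRight : D →ₐ[Ab] R' ⊗[Ab] D).toRingHom := by
    ext x
    rfl
  have hinjD : Function.Injective (algebraMap D (R' ⊗[Ab] D)) := by
    rw [eR]
    exact Algebra.TensorProduct.includeRight_injective hinj
  have hKWle : ∀ Q' : Ideal (R' ⊗[Ab] D), Q'.IsPrime → Q' ≤ W →
      RingHom.ker (algebraMap (R' ⊗[Ab] D) (Localization.AtPrime W)) ≤ Q' := by
    intro Q' hQ' hle' x hx
    rw [RingHom.mem_ker, IsLocalization.map_eq_zero_iff W.primeCompl] at hx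
    obtain ⟨⟨s, hs⟩, hsx⟩ := hx
    have h1 : s * x ∈ Q' := by
      rw [hsx]
      exact Q'.zero_mem
    rcases hQ'.mem_or_mem h1 with h2 | h2
    · exact absurd (hle' h2) hs
    · exact h2
  have hm'le : (maximalIdeal Ab).map (algebraMap Ab R') ≤ maximalIdeal R' :=
    Ideal.map_le_iff_le_comap.mpr hm'c.ge
  have hbot : (⊥ : Ideal (R' ⊗[Ab] D)).comap (algebraMap D (R' ⊗[Ab] D)) ≤ Qb := by
    intro x hx
    rw [Ideal.mem_comap, Ideal.mem_bot] at hx
    have h0 : x = 0 := hinjD (by rw [hx, map_zero])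
    rw [h0]
    exact Qb.zero_mem
  obtain ⟨Q', -, hQ'p, hQ'c⟩ :=
    Ideal.exists_ideal_over_prime_of_isIntegral Qb (⊥ : Ideal (R' ⊗[Ab] D)) hbot
  haveI := hQ'p
  obtain ⟨W', hQ'W', hW'p, hW'c⟩ :=
    Ideal.exists_ideal_over_prime_of_isIntegral_of_isPrime 𝔫D Q' (by rw [hQ'c]; exact hQb𝔫)
  haveI := hW'p
  have hW'R : W'.comap (algebraMap R' (R' ⊗[Ab] D)) = maximalIdeal R' := by
    haveI : (W'.comap (algebraMap R' (R' ⊗[Ab] D))).IsPrime := Ideal.IsPrime.comap _
    have h1 : (W'.comap (algebraMap R' (R' ⊗[Ab] D))).comap (algebraMap Ab R') =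
        maximalIdeal Ab := by
      rw [Ideal.comap_comap, ← IsScalarTower.algebraMap_eq,
        IsScalarTower.algebraMap_eq Ab D (R' ⊗[Ab] D), ← Ideal.comap_comap, hW'c, h𝔫Dc]
    have h2 : (W'.comap (algebraMap R' (R' ⊗[Ab] D))).IsMaximal :=
      Ideal.isMaximal_of_isIntegral_of_isMaximal_comap _
        (h1 ▸ maximalIdeal.isMaximal Ab)
    exact IsLocalRing.eq_maximalIdeal h2
  rw [eL] at hW'R
  rw [eR] at hW'c hQ'c
  have hWW' : W' = W :=
    prime_tensor_unique (A := Ab) (E := D) (R' := R') q 𝔫D (maximalIdeal R') hm'le hpiD W' W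
      hW'R hW'c hWl hWr
  have h3 : RingHom.ker (algebraMap (R' ⊗[Ab] D) (Localization.AtPrime W)) ≤ Q' :=
    hKWle Q' hQ'p (hQ'W'.trans hWW'.le)
  calc (RingHom.ker (algebraMap (R' ⊗[Ab] D) (Localization.AtPrime W))).comap
        (Algebra.TensorProduct.includeRight : D →ₐ[Ab] R' ⊗[Ab] D).toRingHom
      ≤ Q'.comap (Algebra.TensorProduct.includeRight : D →ₐ[Ab] R' ⊗[Ab] D).toRingHom :=
        Ideal.comap_mono h3
    _ = Qb := hQ'c

end GoingUp

section LemmaXpi

attribute [local instance] Algebra.TensorProduct.rightAlgebra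

variable (A : Type u) [CommRing A] [HenselianLocalRing A]
  (E : Type u) [CommRing E] [Algebra A E] [Algebra.Smooth A E]
  (𝔫 : Ideal E) [𝔫.IsPrime] (h𝔫 : (maximalIdeal A).map (algebraMap A E) ≤ 𝔫)
  (q : ℕ) [ExpChar (ResidueField A) q]
  (hpi : ∀ e : E, ∃ n : ℕ, ∃ a : A, e ^ q ^ n - algebraMap A E a ∈ 𝔫)

include h𝔫 hpi in
theorem exists_unique_minimal_over_pi (𝔭 : Ideal A) [h𝔭 : 𝔭.IsPrime] :
    ∃ K' : Ideal E, ∀ Q ∈ minimalPrimes E, Q ≤ 𝔫 → Q.comap (algebraMap A E) = 𝔭 → Q = K' := by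
  classical
  have h𝔭le : 𝔭 ≤ maximalIdeal A := IsLocalRing.le_maximalIdeal h𝔭.ne_top
  let Ab := A ⧸ 𝔭
  let D := E ⧸ 𝔭.map (algebraMap A E)
  let π : E →+* D := Ideal.Quotient.mk _
  have hπs : Function.Surjective π := Ideal.Quotient.mk_surjective
  have hker : RingHom.ker π = 𝔭.map (algebraMap A E) := Ideal.mk_ker
  have hkerle : RingHom.ker π ≤ 𝔫 := by
    rw [hker]
    exact (Ideal.map_mono h𝔭le).trans h𝔫
  haveI : IsDomain Ab := Ideal.Quotient.isDomain 𝔭
  haveI : IsLocalRing Ab := IsLocalRing.of_surjective' (Ideal.Quotient.mk 𝔭)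
    Ideal.Quotient.mk_surjective
  haveI : Module.Finite A Ab := Module.Finite.of_surjective (Ideal.Quotient.mkₐ A 𝔭).toLinearMap
    Ideal.Quotient.mk_surjective
  haveI : HenselianLocalRing Ab := Groth.Agent.Helper7.Hensel.henselianLocalRing_of_finite A Ab
  haveI hloc : IsLocalHom (Ideal.Quotient.mk 𝔭) :=
    IsLocalHom.of_surjective _ Ideal.Quotient.mk_surjective
  haveI : Algebra.Smooth Ab D :=
    Algebra.Smooth.of_equiv (Algebra.TensorProduct.quotIdealMapEquivQuotTensor E 𝔭).symm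
  let 𝔫D : Ideal D := 𝔫.map π
  haveI h𝔫D : 𝔫D.IsPrime := Ideal.map_isPrime_of_surjective hπs hkerle
  have hmD : (maximalIdeal Ab).map (algebraMap Ab D) ≤ 𝔫D := by
    have h1 : maximalIdeal Ab = (maximalIdeal A).map (Ideal.Quotient.mk 𝔭) :=
      (IsLocalRing.map_maximalIdeal_of_surjective (Ideal.Quotient.mk 𝔭)
        Ideal.Quotient.mk_surjective).symm
    rw [h1, Ideal.map_map]
    have h2 : (algebraMap Ab D).comp (Ideal.Quotient.mk 𝔭) = π.comp (algebraMap A E) := by
      ext a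
      rfl
    rw [h2, ← Ideal.map_map]
    exact Ideal.map_mono h𝔫
  haveI : ExpChar (ResidueField Ab) q :=
    expChar_of_injective_ringHom (ResidueField.map (Ideal.Quotient.mk 𝔭)).injective q
  have hpiD : ∀ d : D, ∃ n : ℕ, ∃ a : Ab, d ^ q ^ n - algebraMap Ab D a ∈ 𝔫D := by
    intro d
    obtain ⟨e, rfl⟩ := hπs d
    obtain ⟨n, a, ha⟩ := hpi e
    refine ⟨n, Ideal.Quotient.mk 𝔭 a, ?_⟩
    have h1 : π e ^ q ^ n - algebraMap Ab D (Ideal.Quotient.mk 𝔭 a) =
        π (e ^ q ^ n - algebraMap A E a) := by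
      rw [map_sub, map_pow]
      rfl
    rw [h1]
    exact Ideal.mem_map_of_mem π ha
  -- the normalization of `Ab`
  let R' : Type u := ↥(integralClosure Ab (FractionRing Ab))
  haveI : IsDomain R' := inferInstance
  haveI : IsLocalRing R' := Groth.Agent.Helper7.Hensel.isLocalRing_of_isIntegral_domain Ab R'
  haveI : IsIntegrallyClosed R' :=
    integralClosure.isIntegrallyClosedOfFiniteExtension (FractionRing Ab)
  have hgu : CAlg2.IsGeomUnibranch R' := Groth.Agent.S9812.result R'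
  haveI : IsLocalHom (algebraMap Ab R') := Groth.Agent.Helper7.Hensel.isLocalHom_of_isIntegral
  have hm'c : (maximalIdeal R').comap (algebraMap Ab R') = maximalIdeal Ab := by
    rw [IsLocalRing.maximalIdeal_comap]
  have h𝔫Dc : 𝔫D.comap (algebraMap Ab D) = maximalIdeal Ab :=
    ((maximalIdeal.isMaximal Ab).eq_of_le (Ideal.IsPrime.ne_top inferInstance)
      (Ideal.map_le_iff_le_comap.mp hmD)).symm
  obtain ⟨W, hW, hWl, hWr⟩ := exists_prime_tensor Ab R' D (maximalIdeal R') 𝔫D
    (by rw [hm'c, h𝔫Dc])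
  haveI := hW
  have hle : (maximalIdeal R').map (algebraMap R' (R' ⊗[Ab] D)) ≤ W := by
    rw [Ideal.map_le_iff_le_comap]
    exact hWl.ge
  haveI hdom : IsDomain (Localization.AtPrime W) :=
    isDomain_atPrime_of_smooth_of_isGeomUnibranch R' (R' ⊗[Ab] D) hgu W hle
  haveI : Module.Flat Ab D := inferInstance
  let KD : Ideal D :=
    (RingHom.ker (algebraMap (R' ⊗[Ab] D) (Localization.AtPrime W))).comap
      (Algebra.TensorProduct.includeRight : D →ₐ[Ab] R' ⊗[Ab] D).toRingHom
  haveI hKWp : (RingHom.ker (algebraMap (R' ⊗[Ab] D) (Localization.AtPrime W))).IsPrime :=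
    RingHom.ker_isPrime _
  haveI hKDp : KD.IsPrime := Ideal.IsPrime.comap _
  have hKD : ∀ Qb : Ideal D, Qb.IsPrime → Qb ≤ 𝔫D → KD ≤ Qb := by
    intro Qb hQb hQb𝔫
    exact ker_comap_le (Ab := Ab) (D := D) (R' := R') (FaithfulSMul.algebraMap_injective Ab R') q
      𝔫D h𝔫Dc hm'c hpiD W hWl hWr Qb hQb𝔫
  refine ⟨KD.comap π, ?_⟩
  intro Q hQ hQ𝔫 hQ𝔭
  haveI hQp : Q.IsPrime := hQ.1.1
  have hkerQ : RingHom.ker π ≤ Q := by
    rw [hker, Ideal.map_le_iff_le_comap, hQ𝔭]
  haveI : (Q.map π).IsPrime := Ideal.map_isPrime_of_surjective hπs hkerQ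
  have h1 : KD ≤ Q.map π := hKD _ inferInstance (Ideal.map_mono hQ𝔫)
  have h2 : KD.comap π ≤ Q := by
    have h3 : (Q.map π).comap π = Q := by
      rw [Ideal.comap_map_of_surjective π hπs, ← RingHom.ker_eq_comap_bot]
      exact sup_eq_left.mpr hkerQ
    rw [← h3]
    exact Ideal.comap_mono h1
  exact le_antisymm (hQ.2 ⟨Ideal.IsPrime.comap π, bot_le⟩ h2) h2

include h𝔫 hpi in
theorem encard_minimalPrimes_atPrime_le_of_smooth_pi :
    (minimalPrimes (Localization.AtPrime 𝔫)).encard ≤ (minimalPrimes A).encard := by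
  classical
  let C := Localization.AtPrime 𝔫
  haveI : Module.Flat A E := inferInstance
  haveI : Module.Flat E C := IsLocalization.flat C 𝔫.primeCompl
  haveI : Module.Flat A C := Module.Flat.trans A E C
  refine Set.encard_le_encard_of_injOn (f := fun P : Ideal C => P.comap (algebraMap A C))
    (fun P hP => comap_mem_minimalPrimes_of_flat (B := A) (C := C) P hP) ?_
  intro P₁ hP₁ P₂ hP₂ h12
  simp only at h12
  haveI hP₁p : P₁.IsPrime := hP₁.1.1
  haveI hP₂p : P₂.IsPrime := hP₂.1.1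
  haveI : (P₁.comap (algebraMap A C)).IsPrime := Ideal.IsPrime.comap _
  obtain ⟨K', hK'⟩ := exists_unique_minimal_over_pi A E 𝔫 h𝔫 q hpi (P₁.comap (algebraMap A C))
  have hcm : (maximalIdeal C).comap (algebraMap E C) = 𝔫 :=
    IsLocalization.AtPrime.comap_maximalIdeal C 𝔫
  have key : ∀ P : Ideal C, P ∈ minimalPrimes C →
      P.comap (algebraMap A C) = P₁.comap (algebraMap A C) → P.comap (algebraMap E C) = K' := by
    intro P hP hPc
    haveI : P.IsPrime := hP.1.1
    apply hK' _ (comap_mem_minimalPrimes_of_flat (B := E) (C := C) P hP)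
    · exact (Ideal.comap_mono
        (IsLocalRing.le_maximalIdeal (Ideal.IsPrime.ne_top inferInstance))).trans hcm.le
    · rw [Ideal.comap_comap, ← IsScalarTower.algebraMap_eq A E C]
      exact hPc
  have e1 := key P₁ hP₁ rfl
  have e2 := key P₂ hP₂ h12.symm
  have m1 : Ideal.map (algebraMap E C) (P₁.comap (algebraMap E C)) = P₁ :=
    IsLocalization.map_comap 𝔫.primeCompl C P₁
  have m2 : Ideal.map (algebraMap E C) (P₂.comap (algebraMap E C)) = P₂ :=
    IsLocalization.map_comap 𝔫.primeCompl C P₂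
  rw [← m1, ← m2, e1, e2]

end LemmaXpi

section LemmaZpi

variable (R E : Type u) [CommRing R] [CommRing E] [Algebra R E] [Algebra.Smooth R E]
  (p : Ideal R) [p.IsPrime] (𝔫 : Ideal E) [𝔫.IsPrime] (h𝔫 : 𝔫.comap (algebraMap R E) = p)
  (Ah : Type u) [CommRing Ah] [IsLocalRing Ah] [Algebra (Localization.AtPrime p) Ah]
  [IsLocalHom (algebraMap (Localization.AtPrime p) Ah)]
  [hA : Hensel.IsHenselization (Localization.AtPrime p) Ah]
  (q : ℕ) [ExpChar (ResidueField (Localization.AtPrime p)) q]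

include hA in
theorem encard_minimalPrimes_atPrime_le_henselization_pi
    (hpi : PIRes q (Localization.localRingHom p 𝔫 (algebraMap R E) h𝔫.symm)) :
    (minimalPrimes (Localization.AtPrime 𝔫)).encard ≤ (minimalPrimes Ah).encard := by
  classical
  letI : Algebra R Ah := ((algebraMap (Localization.AtPrime p) Ah).comp
    (algebraMap R (Localization.AtPrime p))).toAlgebra
  haveI : IsScalarTower R (Localization.AtPrime p) Ah := IsScalarTower.of_algebraMap_eq' rfl
  haveI : HenselianLocalRing Ah := hA.henselian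
  haveI : Module.FaithfullyFlat (Localization.AtPrime p) Ah := Groth.Agent.S0509.result _ _
  haveI : Module.Flat R (Localization.AtPrime p) := IsLocalization.flat _ p.primeCompl
  haveI : Module.Flat R Ah := Module.Flat.trans R (Localization.AtPrime p) Ah
  have hmA : (maximalIdeal Ah).comap (algebraMap R Ah) = p := by
    rw [IsScalarTower.algebraMap_eq R (Localization.AtPrime p) Ah, ← Ideal.comap_comap,
      IsLocalRing.maximalIdeal_comap]
    exact IsLocalization.AtPrime.under_maximalIdeal (Localization.AtPrime p) p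
  obtain ⟨W, hW, hWl, hWr⟩ := exists_prime_tensor R Ah E (maximalIdeal Ah) 𝔫
    (by rw [hmA, h𝔫])
  haveI := hW
  have hle : (maximalIdeal Ah).map (algebraMap Ah (Ah ⊗[R] E)) ≤ W := by
    rw [Ideal.map_le_iff_le_comap]
    exact hWl.ge
  haveI : ExpChar (ResidueField Ah) q :=
    expChar_of_injective_ringHom
      (ResidueField.map (algebraMap (Localization.AtPrime p) Ah)).injective q
  -- purely inseparable in the tensor product
  have hpiW : ∀ t : Ah ⊗[R] E, ∃ n : ℕ, ∃ a : Ah,
      t ^ q ^ n - algebraMap Ah (Ah ⊗[R] E) a ∈ W := by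
    haveI : Nontrivial ((Ah ⊗[R] E) ⧸ W) := Ideal.Quotient.nontrivial_iff.mpr hW.ne_top
    have hkill : ∀ a ∈ maximalIdeal Ah,
        ((Ideal.Quotient.mk W).comp (algebraMap Ah (Ah ⊗[R] E))) a = 0 := by
      intro a ha
      rw [RingHom.comp_apply, Ideal.Quotient.eq_zero_iff_mem]
      exact hle (Ideal.mem_map_of_mem _ ha)
    let φ : ResidueField Ah →+* (Ah ⊗[R] E) ⧸ W :=
      Ideal.Quotient.lift (maximalIdeal Ah)
        ((Ideal.Quotient.mk W).comp (algebraMap Ah (Ah ⊗[R] E))) hkill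
    haveI : ExpChar ((Ah ⊗[R] E) ⧸ W) q :=
      expChar_of_injective_ringHom (RingHom.injective φ) q
    have h₁ : ∀ s : Ah, ∃ n : ℕ,
        (Ideal.Quotient.mk W) (s ⊗ₜ[R] (1 : E)) ^ q ^ n ∈
          ((Ideal.Quotient.mk W).comp
            (Algebra.TensorProduct.includeLeft : Ah →ₐ[R] Ah ⊗[R] E).toRingHom).range := by
      intro s
      refine ⟨0, ?_⟩
      rw [pow_zero, pow_one]
      exact ⟨s, rfl⟩
    have h₂ : ∀ e : E, ∃ n : ℕ,
        (Ideal.Quotient.mk W) ((1 : Ah) ⊗ₜ[R] e) ^ q ^ n ∈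
          ((Ideal.Quotient.mk W).comp
            (Algebra.TensorProduct.includeLeft : Ah →ₐ[R] Ah ⊗[R] E).toRingHom).range := by
      intro e
      obtain ⟨n, a', ha'⟩ := hpi (algebraMap E (Localization.AtPrime 𝔫) e)
      obtain ⟨r, s, rfl⟩ := IsLocalization.exists_mk'_eq p.primeCompl a'
      rw [Localization.localRingHom_mk', ← map_pow] at ha'
      have h3 := mem_of_sub_mk'_mem 𝔫 (e ^ q ^ n) (algebraMap R E r) _ ha'
      have h3' : algebraMap R E (s : R) * e ^ q ^ n - algebraMap R E r ∈ 𝔫 := h3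
      have hunit : IsUnit (algebraMap R Ah (s : R)) := by
        rw [IsScalarTower.algebraMap_apply R (Localization.AtPrime p) Ah]
        exact (IsLocalization.map_units (Localization.AtPrime p) s).map _
      obtain ⟨uu, huu⟩ := hunit
      have h6 : (Ideal.Quotient.mk W) ((algebraMap R Ah (s : R)) ⊗ₜ[R] (1 : E)) *
          (Ideal.Quotient.mk W) ((1 : Ah) ⊗ₜ[R] e) ^ q ^ n =
          (Ideal.Quotient.mk W) ((algebraMap R Ah r) ⊗ₜ[R] (1 : E)) := by
        rw [← map_pow, ← map_mul, Algebra.TensorProduct.tmul_pow, one_pow,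
          Algebra.TensorProduct.tmul_mul_tmul, mul_one, one_mul]
        rw [← sub_eq_zero, ← map_sub, Ideal.Quotient.eq_zero_iff_mem]
        have h7 : (algebraMap R Ah (s : R)) ⊗ₜ[R] (e ^ q ^ n) -
            (algebraMap R Ah r) ⊗ₜ[R] (1 : E) =
            (1 : Ah) ⊗ₜ[R] (algebraMap R E (s : R) * e ^ q ^ n - algebraMap R E r) := by
          rw [TensorProduct.tmul_sub, Algebra.algebraMap_eq_smul_one (A := Ah) (s : R),
            Algebra.algebraMap_eq_smul_one (A := Ah) r, TensorProduct.smul_tmul,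
            TensorProduct.smul_tmul, ← Algebra.smul_def, ← Algebra.algebraMap_eq_smul_one]
        rw [h7]
        have h8 : (algebraMap R E (s : R) * e ^ q ^ n - algebraMap R E r) ∈ W.comap
            (Algebra.TensorProduct.includeRight : E →ₐ[R] Ah ⊗[R] E).toRingHom := by
          rw [hWr]
          exact h3'
        exact h8
      refine ⟨n, (↑uu⁻¹ : Ah) * algebraMap R Ah r, ?_⟩
      show (Ideal.Quotient.mk W) (((↑uu⁻¹ : Ah) * algebraMap R Ah r) ⊗ₜ[R] (1 : E)) =
        (Ideal.Quotient.mk W) ((1 : Ah) ⊗ₜ[R] e) ^ q ^ n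
      have h9 : ((↑uu⁻¹ : Ah) * algebraMap R Ah r) ⊗ₜ[R] (1 : E) =
          ((↑uu⁻¹ : Ah) ⊗ₜ[R] (1 : E)) * ((algebraMap R Ah r) ⊗ₜ[R] (1 : E)) := by
        rw [Algebra.TensorProduct.tmul_mul_tmul, mul_one]
      rw [h9, map_mul, ← h6, ← mul_assoc, ← map_mul, Algebra.TensorProduct.tmul_mul_tmul,
        mul_one, ← huu, Units.inv_mul, ← Algebra.TensorProduct.one_def, map_one, one_mul]
    intro t
    obtain ⟨n, a, ha⟩ := pinsep_tensor q (Ideal.Quotient.mk W) _ h₁ h₂ t
    refine ⟨n, a, ?_⟩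
    rw [← Ideal.Quotient.eq_zero_iff_mem, map_sub, sub_eq_zero, map_pow]
    exact ha.symm
  have h1 := encard_minimalPrimes_atPrime_le_of_smooth_pi Ah (Ah ⊗[R] E) W hle q hpiW
  refine le_trans ?_ h1
  -- faithfully flat local homomorphism
  let f : E →+* Ah ⊗[R] E :=
    (Algebra.TensorProduct.includeRight : E →ₐ[R] Ah ⊗[R] E).toRingHom
  have hf : f.Flat := by
    letI := Algebra.TensorProduct.rightAlgebra (R := R) (A := Ah) (B := E)
    have : Module.Flat E (Ah ⊗[R] E) :=
      Module.Flat.of_linearEquiv (Algebra.TensorProduct.commRight R E Ah).symm.toLinearEquiv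
    exact this
  let g := Localization.localRingHom 𝔫 W f hWr.symm
  have hg : g.Flat := hf.localRingHom W 𝔫 hWr.symm
  letI : Algebra (Localization.AtPrime 𝔫) (Localization.AtPrime W) := g.toAlgebra
  haveI : Module.Flat (Localization.AtPrime 𝔫) (Localization.AtPrime W) := hg
  haveI : IsLocalHom (algebraMap (Localization.AtPrime 𝔫) (Localization.AtPrime W)) :=
    Localization.isLocalHom_localRingHom 𝔫 W f hWr.symm
  haveI : Module.FaithfullyFlat (Localization.AtPrime 𝔫) (Localization.AtPrime W) :=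
    Module.FaithfullyFlat.of_flat_of_isLocalHom
  exact encard_minimalPrimes_le_of_faithfullyFlat

end LemmaZpi

end Groth.Agent.Helper7.BrSm
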