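import Mathlib
import Groth.Prelude
import Groth.Agent.Lib.Helper7.BrSm.Min

/-!
# Henselizations of `R_p` and `S_q` have the same number of minimal primes
(`R → S` smooth, `κ(q)/κ(p)` purely inseparable)
-/

set_option linter.style.haveILetI false
set_option linter.unusedVariables false
set_option linter.unusedSectionVars false
set_option linter.overlappingInstances false
set_option autoImplicit false
set_option backward.isDefEq.respectTransparency.types false
set_option backward.isDefEq.respectTransparency false
set_option synthInstance.maxHeartbeats 400000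
set_option maxHeartbeats 1600000

universe u

open AlgebraicGeometry CategoryTheory Limits IsLocalRing TensorProduct

namespace Groth.Agent.Helper7.BrSm

open Groth.Agent.Lead.GUnib Groth.Agent.Helper7.SHens

/-! ### purely inseparable residue extension, elementwise -/

theorem pIRes_of_isPurelyInseparable {R S : Type u} [CommRing R] [CommRing S] [Algebra R S]
    (q : Ideal S) [q.IsPrime] (p : Ideal R) [p.IsPrime] [q.LiesOver p]
    (hpi : @IsPurelyInseparable p.ResidueField q.ResidueField _ _
      (Ideal.ResidueField.mapₐ p q (Algebra.ofId R S) (q.over_def p)).toRingHom.toAlgebra)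
    (q₀ : ℕ) [ExpChar p.ResidueField q₀] :
    PIRes q₀ (Localization.localRingHom p q (algebraMap R S) (q.over_def p)) := by
  letI alg : Algebra p.ResidueField q.ResidueField :=
    (Ideal.ResidueField.mapₐ p q (Algebra.ofId R S) (q.over_def p)).toRingHom.toAlgebra
  haveI : IsPurelyInseparable p.ResidueField q.ResidueField := hpi
  intro y
  obtain ⟨n, w, hw⟩ := IsPurelyInseparable.pow_mem p.ResidueField q₀
    (residue (Localization.AtPrime q) y)
  obtain ⟨a, rfl⟩ := IsLocalRing.residue_surjective w
  refine ⟨n, a, ?_⟩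
  rw [← residue_eq_zero_iff, map_sub, sub_eq_zero, map_pow, ← hw]
  exact (IsLocalRing.ResidueField.map_residue
    (Localization.localRingHom p q (algebraMap R S) (q.over_def p)) a).symm

/-! ### the inequality `≤` : base change of stages -/

theorem encard_eq_iSup_stage (A : Type u) [CommRing A] [IsLocalRing A] (Ah : Type u) [CommRing Ah]
    [IsLocalRing Ah] [Algebra A Ah] [IsLocalHom (algebraMap A Ah)]
    [Hensel.IsHenselization A Ah] :
    (minimalPrimes Ah).encard =
      ⨆ U : Nbhd A (ResidueField A), (minimalPrimes U.Loc).encard := by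
  haveI hH : Hensel.IsHenselization A (G A (ResidueField A)) := isHenselization_HModel A
  have h1 := Groth.Agent.Helper8.HensGU.card_minimalPrimes_henselization A Ah
  have h2 := Groth.Agent.Helper8.HensGU.card_minimalPrimes_henselization A
    (G A (ResidueField A))
  rw [← encard_minimalPrimes_G_eq_iSup]
  exact h1.trans h2.symm

theorem iSup_stage_le_of_flat (A B : Type u) [CommRing A] [IsLocalRing A] [CommRing B]
    [IsLocalRing B] [Algebra A B] [IsLocalHom (algebraMap A B)] [Module.Flat A B] :
    (⨆ U : Nbhd A (ResidueField A), (minimalPrimes U.Loc).encard) ≤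
      ⨆ V : Nbhd B (ResidueField B), (minimalPrimes V.Loc).encard := by
  classical
  refine iSup_le fun U => ?_
  haveI : IsScalarTower A (ResidueField A) (ResidueField B) :=
    IsScalarTower.of_algebraMap_eq (fun a => rfl)
  let g : U.Ring →ₐ[A] ResidueField B :=
    (IsScalarTower.toAlgHom A (ResidueField A) (ResidueField B)).comp U.sec
  let secB : B ⊗[A] U.Ring →ₐ[B] ResidueField B :=
    Algebra.TensorProduct.lift (Algebra.ofId B (ResidueField B)) g (fun _ _ => Commute.all _ _)
  let QB : Ideal (B ⊗[A] U.Ring) := RingHom.ker (secB : B ⊗[A] U.Ring →+* ResidueField B)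
  haveI : QB.IsPrime := RingHom.ker_isPrime _
  obtain ⟨V, ⟨eV⟩⟩ := exists_nbhd_equiv_of_sec (A := B) (K := ResidueField B) (B ⊗[A] U.Ring) QB
    secB (fun x => (RingHom.mem_ker).symm)
  refine le_trans ?_ (le_iSup (fun V : Nbhd B (ResidueField B) => (minimalPrimes V.Loc).encard) V)
  rw [← encard_minimalPrimes_of_ringEquiv eV]
  let j : U.Ring →+* B ⊗[A] U.Ring :=
    (Algebra.TensorProduct.includeRight : U.Ring →ₐ[A] B ⊗[A] U.Ring).toRingHom
  have hj : j.Flat := by
    letI := Algebra.TensorProduct.rightAlgebra (R := A) (A := B) (B := U.Ring)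
    have : Module.Flat U.Ring (B ⊗[A] U.Ring) :=
      Module.Flat.of_linearEquiv (Algebra.TensorProduct.commRight A U.Ring B).symm.toLinearEquiv
    exact this
  have hc : QB.comap j = U.q := by
    ext x
    rw [Ideal.mem_comap, RingHom.mem_ker, Nbhd.mem_q]
    show secB ((1 : B) ⊗ₜ[A] x) = 0 ↔ _
    rw [Algebra.TensorProduct.lift_tmul, map_one, one_mul]
    show algebraMap (ResidueField A) (ResidueField B) (U.sec x) = 0 ↔ _
    exact map_eq_zero_iff _ (RingHom.injective _)
  let g' := Localization.localRingHom U.q QB j hc.symm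
  have hg' : g'.Flat := hj.localRingHom QB U.q hc.symm
  letI : Algebra U.Loc (Localization.AtPrime QB) := g'.toAlgebra
  haveI : Module.Flat U.Loc (Localization.AtPrime QB) := hg'
  haveI : IsLocalHom (algebraMap U.Loc (Localization.AtPrime QB)) :=
    Localization.isLocalHom_localRingHom U.q QB j hc.symm
  haveI : Module.FaithfullyFlat U.Loc (Localization.AtPrime QB) :=
    Module.FaithfullyFlat.of_flat_of_isLocalHom
  exact encard_minimalPrimes_le_of_faithfullyFlat

theorem le_part {R S Ah Bh : Type u} [CommRing R] [CommRing S] [Algebra R S]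
    [Algebra.Smooth R S] (q : Ideal S) [hq : q.IsPrime] (p : Ideal R) [hp : p.IsPrime]
    [hqp : q.LiesOver p]
    [CommRing Ah] [IsLocalRing Ah] [Algebra (Localization.AtPrime p) Ah]
    [IsLocalHom (algebraMap (Localization.AtPrime p) Ah)]
    [Hensel.IsHenselization (Localization.AtPrime p) Ah]
    [CommRing Bh] [IsLocalRing Bh] [Algebra (Localization.AtPrime q) Bh]
    [IsLocalHom (algebraMap (Localization.AtPrime q) Bh)]
    [Hensel.IsHenselization (Localization.AtPrime q) Bh] :
    (minimalPrimes Ah).encard ≤ (minimalPrimes Bh).encard := by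
  classical
  letI : Algebra (Localization.AtPrime p) (Localization.AtPrime q) :=
    (Localization.localRingHom p q (algebraMap R S) (q.over_def p)).toAlgebra
  haveI : IsLocalHom (algebraMap (Localization.AtPrime p) (Localization.AtPrime q)) :=
    Localization.isLocalHom_localRingHom p q (algebraMap R S) (q.over_def p)
  haveI : Module.Flat R S := inferInstance
  have hfl : (algebraMap R S).Flat := RingHom.flat_algebraMap_iff.mpr inferInstance
  haveI : Module.Flat (Localization.AtPrime p) (Localization.AtPrime q) :=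
    hfl.localRingHom q p (q.over_def p)
  rw [encard_eq_iSup_stage (Localization.AtPrime p) Ah,
    encard_eq_iSup_stage (Localization.AtPrime q) Bh]
  exact iSup_stage_le_of_flat (Localization.AtPrime p) (Localization.AtPrime q)

/-! ### the inequality `≥` : elementary étale neighbourhoods -/

theorem isHenselization_of_ringEquiv {A B S : Type u} [CommRing A] [IsLocalRing A] [CommRing B]
    [IsLocalRing B] [CommRing S] [IsLocalRing S] [Algebra B S] [IsLocalHom (algebraMap B S)]
    [h : Hensel.IsHenselization B S] (e : A ≃+* B) (alg : Algebra A S)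
    (halg : algebraMap A S = (algebraMap B S).comp e.toRingHom)
    (hloc : IsLocalHom (algebraMap A S)) : Hensel.IsHenselization A S := by
  refine ⟨h.henselian, ?_⟩
  intro T _ _ f hf
  haveI := hf
  haveI : IsLocalHom e.symm.toRingHom :=
    ⟨fun a ha => (isLocalHom_equiv e.symm).map_nonunit a ha⟩
  have hf' : IsLocalHom (f.comp e.symm.toRingHom) := RingHom.isLocalHom_comp _ _
  obtain ⟨g, hg, huniq⟩ := h.universal T (f.comp e.symm.toRingHom) hf'
  refine ⟨g, ?_, ?_⟩
  · show g.comp (algebraMap A S) = f
    rw [halg, ← RingHom.comp_assoc, hg]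
    ext a
    simp
  · intro g' hg'
    apply huniq
    show g'.comp (algebraMap B S) = f.comp e.symm.toRingHom
    rw [← hg', halg]
    ext b
    simp

section Spec

variable (R : Type u) [CommRing R] (p : Ideal R) [hp : p.IsPrime]
  (Ah : Type u) [CommRing Ah] [IsLocalRing Ah] [Algebra (Localization.AtPrime p) Ah]
  [IsLocalHom (algebraMap (Localization.AtPrime p) Ah)]
  [hA : Hensel.IsHenselization (Localization.AtPrime p) Ah]

include hA in
theorem encard_minimalPrimes_eq_numBranchesAt_spec :
    (minimalPrimes Ah).encard =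
      Brnch.numBranchesAt (Spec (CommRingCat.of R)) (⟨p, hp⟩ : PrimeSpectrum R) := by
  let x : PrimeSpectrum R := ⟨p, hp⟩
  let A := (Spec (CommRingCat.of R)).presheaf.stalk x
  let e : A ≃+* Localization.AtPrime p :=
    (AlgebraicGeometry.StructureSheaf.stalkIso R x).toRingEquiv.symm
  letI alg : Algebra A Ah := ((algebraMap (Localization.AtPrime p) Ah).comp e.toRingHom).toAlgebra
  have hloc : IsLocalHom (algebraMap A Ah) := by
    haveI : IsLocalHom e.toRingHom := ⟨fun a ha => (isLocalHom_equiv e).map_nonunit a ha⟩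
    exact RingHom.isLocalHom_comp _ _
  haveI := hloc
  haveI : Hensel.IsHenselization A Ah := isHenselization_of_ringEquiv e alg rfl hloc
  have h := Groth.Agent.Helper8.HensGU.card_minimalPrimes_henselization A Ah
  unfold Brnch.numBranchesAt
  rw [← h]
  rfl

include hA in
theorem encard_components_le_of_smooth_pi {U : Scheme.{u}} (h : U ⟶ Spec (CommRingCat.of R))
    [Smooth h] (u : U) (hu : h u = (⟨p, hp⟩ : PrimeSpectrum R))
    (q₀ : ℕ) [ExpChar (ResidueField (Localization.AtPrime p)) q₀]
    (hPI : PIRes q₀ (h.stalkMap u).hom) :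
    {Z : Set U | Z ∈ irreducibleComponents U ∧ u ∈ Z}.encard ≤ (minimalPrimes Ah).encard := by
  rw [encard_components_eq]
  obtain ⟨_, ⟨W, hW, rfl⟩, huW, -⟩ :=
    U.isBasis_affineOpens.exists_subset_of_mem_open (Set.mem_univ u) isOpen_univ
  obtain ⟨φ, hφ⟩ := Spec.map_surjective (hW.fromSpec ≫ h)
  have hsm : Smooth (Spec.map φ) := by rw [hφ]; infer_instance
  have hφsm : φ.hom.Smooth := (HasRingHomProperty.Spec_iff (P := @Smooth)).mp hsm
  let E := Γ(U, W)
  letI : Algebra R E := φ.hom.toAlgebra
  haveI : Algebra.Smooth R E := hφsm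
  let 𝔫 : Ideal E := (hW.primeIdealOf ⟨u, huW⟩).asIdeal
  haveI : 𝔫.IsPrime := (hW.primeIdealOf ⟨u, huW⟩).isPrime
  have h𝔫 : 𝔫.comap (algebraMap R E) = p := by
    have h1 : (Spec.map φ) (hW.primeIdealOf ⟨u, huW⟩) = (⟨p, hp⟩ : PrimeSpectrum R) := by
      rw [hφ, Scheme.Hom.comp_apply, hW.fromSpec_primeIdealOf ⟨u, huW⟩]
      exact hu
    exact congrArg PrimeSpectrum.asIdeal h1
  -- the purely inseparable condition for the ring map
  have step0 : ∀ v : U, v = u → PIRes q₀ (h.stalkMap v).hom := by
    rintro _ rfl
    exact hPI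
  have step1 : PIRes q₀ ((hW.fromSpec ≫ h).stalkMap (hW.primeIdealOf ⟨u, huW⟩)).hom := by
    have h1 : (hW.fromSpec ≫ h).stalkMap (hW.primeIdealOf ⟨u, huW⟩) =
        h.stalkMap (hW.fromSpec (hW.primeIdealOf ⟨u, huW⟩)) ≫
          hW.fromSpec.stalkMap (hW.primeIdealOf ⟨u, huW⟩) :=
      Scheme.Hom.stalkMap_comp hW.fromSpec h _
    rw [h1]
    have h2 := step0 _ (hW.fromSpec_primeIdealOf ⟨u, huW⟩)
    let e₂ := (asIso (hW.fromSpec.stalkMap (hW.primeIdealOf ⟨u, huW⟩))).commRingCatIsoToRingEquiv
    exact PIRes.of_square q₀ (RingEquiv.refl _) e₂ (fun a => rfl) h2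
  have step2 : ∀ m : Spec Γ(U, W) ⟶ Spec (CommRingCat.of R), m = hW.fromSpec ≫ h →
      PIRes q₀ (m.stalkMap (hW.primeIdealOf ⟨u, huW⟩)).hom := by
    rintro _ rfl
    exact step1
  have step3 := PIRes.of_arrowIso q₀
    (Scheme.arrowStalkMapSpecIso φ (hW.primeIdealOf ⟨u, huW⟩)) (step2 _ hφ)
  have step4 : ∀ (p' : Ideal R) [p'.IsPrime] (h' : 𝔫.comap (algebraMap R E) = p'),
      PIRes q₀ (Localization.localRingHom p' 𝔫 (algebraMap R E) h'.symm) := by
    rintro _ _ rfl
    exact step3
  have hpi := step4 p h𝔫
  have key := encard_minimalPrimes_atPrime_le_henselization_pi R E p 𝔫 h𝔫 Ah q₀ hpi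
  letI := U.presheaf.algebra_section_stalk ⟨u, huW⟩
  haveI := hW.isLocalization_stalk ⟨u, huW⟩
  let e : Localization.AtPrime 𝔫 ≃ₐ[E] U.presheaf.stalk u :=
    IsLocalization.algEquiv 𝔫.primeCompl _ _
  rw [← encard_minimalPrimes_of_ringEquiv e.toRingEquiv]
  exact key

end Spec

theorem main {R S Ah Bh : Type u} [CommRing R] [CommRing S]
    [Algebra R S] [Algebra.Smooth R S] (q : Ideal S) [hq : q.IsPrime] (p : Ideal R)
    [hp : p.IsPrime] [hqp : q.LiesOver p]
    (hpi : @IsPurelyInseparable p.ResidueField q.ResidueField _ _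
      (Ideal.ResidueField.mapₐ p q (Algebra.ofId R S) (q.over_def p)).toRingHom.toAlgebra)
    [CommRing Ah] [IsLocalRing Ah] [Algebra (Localization.AtPrime p) Ah]
    [IsLocalHom (algebraMap (Localization.AtPrime p) Ah)]
    [Hensel.IsHenselization (Localization.AtPrime p) Ah]
    [CommRing Bh] [IsLocalRing Bh] [Algebra (Localization.AtPrime q) Bh]
    [IsLocalHom (algebraMap (Localization.AtPrime q) Bh)]
    [Hensel.IsHenselization (Localization.AtPrime q) Bh] :
    (minimalPrimes Ah).encard = (minimalPrimes Bh).encard := by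
  classical
  apply le_antisymm
  · exact le_part q p
  · let f : Spec (CommRingCat.of S) ⟶ Spec (CommRingCat.of R) :=
      Spec.map (CommRingCat.ofHom (algebraMap R S))
    haveI : Smooth f := (HasRingHomProperty.Spec_iff (P := @Smooth)).mpr
      (RingHom.smooth_algebraMap.mpr ‹Algebra.Smooth R S›)
    let x : Spec (CommRingCat.of S) := (⟨q, hq⟩ : PrimeSpectrum S)
    let y : Spec (CommRingCat.of R) := (⟨p, hp⟩ : PrimeSpectrum R)
    have hfx : f x = y := by
      apply PrimeSpectrum.ext
      exact (hqp.over).symm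
    haveI hq₀ : ExpChar p.ResidueField (ringExpChar p.ResidueField) := ringExpChar.expChar _
    haveI : ExpChar (ResidueField (Localization.AtPrime p)) (ringExpChar p.ResidueField) := hq₀
    have hring := pIRes_of_isPurelyInseparable q p hpi (ringExpChar p.ResidueField)
    have hring' : ∀ (p' : Ideal R) [p'.IsPrime] (h' : p' = q.comap (algebraMap R S)),
        PIRes (ringExpChar p.ResidueField) (Localization.localRingHom p' q (algebraMap R S) h') →
        PIRes (ringExpChar p.ResidueField)
          (Localization.localRingHom (q.comap (algebraMap R S)) q (algebraMap R S) rfl) := by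
      rintro _ _ rfl h
      exact h
    have hfstalk : PIRes (ringExpChar p.ResidueField) (f.stalkMap x).hom :=
      PIRes.of_arrowIso _
        (Scheme.arrowStalkMapSpecIso (CommRingCat.ofHom (algebraMap R S)) x).symm
        (hring' p (q.over_def p) hring)
    have hfstalk' : ∀ v : Spec (CommRingCat.of S), v = x →
        PIRes (ringExpChar p.ResidueField) (f.stalkMap v).hom := by
      rintro _ rfl
      exact hfstalk
    rw [encard_minimalPrimes_eq_numBranchesAt_spec S q Bh, S9752_main]
    refine iSup_le fun U => iSup_le fun g => iSup_le fun u => iSup_le fun hu => ?_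
    haveI := hu.etale
    apply encard_components_le_of_smooth_pi R p Ah (g ≫ f) u _ (ringExpChar p.ResidueField) _
    · rw [Scheme.Hom.comp_apply, hu.base_eq]
      exact hfx
    · have h1 : (g ≫ f).stalkMap u = f.stalkMap (g u) ≫ g.stalkMap u :=
        Scheme.Hom.stalkMap_comp g f u
      rw [h1]
      have hg' : PIRes (ringExpChar p.ResidueField) (g.stalkMap u).hom :=
        PIRes.of_resSurj _ ((bijective_residueFieldMap_iff g u).mp hu.residue_bijective)
      haveI : IsLocalHom (g.stalkMap u).hom := inferInstance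
      exact PIRes.comp _ (hfstalk' _ hu.base_eq) hg'

end Groth.Agent.Helper7.BrSm
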